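import Mathlib
import Cfsg.Agent.Lib.Helper13.SpBN.Defs

/-!
# SPBN-[ST-PELT] (helper83): `p`-elements of the torus are trivial
-/

set_option autoImplicit false

namespace Cfsg.Agent.Lib.Helper83.SpBN

open Matrix Cfsg.Agent.Lib.Helper13.SpBN

variable {m : ℕ} {F : Type*} [Field F]

theorem rk_injective : Function.Injective (rk (m := m)) := by
  intro a b h
  rcases a with a | a <;> rcases b with b | b <;> simp only [rk] at h
  · exact congrArg Sum.inl (Fin.ext h)
  · exfalso; have := a.2; have := b.2; omega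
  · exfalso; have := a.2; have := b.2; omega
  · have := a.2; have := b.2
    exact congrArg Sum.inr (Fin.ext (by omega))

/-- entries of a torus element off the diagonal vanish -/
theorem apply_eq_zero_of_mem_Tsp {g : SpG m F} (hg : g ∈ Tsp m F) {a b : Idx m} (hab : a ≠ b) :
    (g : Matrix (Idx m) (Idx m) F) a b = 0 := by
  have h1 : BlockTriangular (g : Matrix (Idx m) (Idx m) F) rk := hg.1
  have h2 : BlockTriangular (g : Matrix (Idx m) (Idx m) F)ᵀ rk := hg.2
  rcases lt_or_gt_of_ne (fun h => hab (rk_injective h)) with h | h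
  · exact h2 h
  · exact h1 h

/-- a torus element is the diagonal matrix of its diagonal -/
theorem coe_eq_diagonal_of_mem_Tsp {g : SpG m F} (hg : g ∈ Tsp m F) :
    (g : Matrix (Idx m) (Idx m) F) =
      Matrix.diagonal fun a => (g : Matrix (Idx m) (Idx m) F) a a := by
  ext a b
  by_cases hab : a = b
  · subst hab; simp
  · rw [apply_eq_zero_of_mem_Tsp hg hab, Matrix.diagonal_apply_ne _ hab]

theorem coe_pow_SpG (g : SpG m F) (n : ℕ) :
    ((g ^ n : SpG m F) : Matrix (Idx m) (Idx m) F) = (g : Matrix (Idx m) (Idx m) F) ^ n := by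
  induction n with
  | zero => simp
  | succ n ih => rw [pow_succ, pow_succ, ← ih]; rfl

/-- [ST-PELT] -/
theorem eq_one_of_mem_Tsp_of_pow (p : ℕ) [Fact p.Prime] [CharP F p] {t : SpG m F}
    (ht : t ∈ Tsp m F) {j : ℕ} (hj : t ^ p ^ j = 1) : t = 1 := by
  apply Subtype.ext
  have h1 := coe_eq_diagonal_of_mem_Tsp ht
  have h2 : (t : Matrix (Idx m) (Idx m) F) ^ p ^ j = 1 := by
    rw [← coe_pow_SpG, hj]; rfl
  rw [h1, Matrix.diagonal_pow] at h2
  show (t : Matrix (Idx m) (Idx m) F) = 1
  rw [h1, ← Matrix.diagonal_one]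
  congr 1
  funext a
  have h3 := congrFun (congrFun h2 a) a
  simp only [Matrix.diagonal_apply_eq, Matrix.one_apply_eq, Pi.pow_apply] at h3
  have h4 : ((t : Matrix (Idx m) (Idx m) F) a a - 1) ^ p ^ j = 0 := by
    rw [sub_pow_char_pow, h3]; simp
  have h5 := pow_eq_zero_iff (n := p ^ j) (pow_ne_zero _ (Fact.out : p.Prime).ne_zero) |>.mp h4
  simpa [sub_eq_zero] using h5
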