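import Mathlib
import Cfsg.Agent.Lib.Helper83.SpBN.StPelt

/-!
# SPBN-[ST-CENTER] (helper83): the centre of `Sp` consists of diagonal matrices
-/

set_option autoImplicit false

namespace Cfsg.Agent.Lib.Helper83.SpBN

open Matrix Cfsg.Agent.Lib.Helper13.SpBN

variable {m : ℕ} {F : Type*} [Field F]

theorem upperBlock_mem (S : Matrix (Fin m) (Fin m) F) (hS : Sᵀ = S) :
    fromBlocks 1 S 0 1 ∈ Matrix.symplecticGroup (Fin m) F := by
  rw [SymplecticGroup.mem_iff, Matrix.J, fromBlocks_transpose, fromBlocks_multiply,
    fromBlocks_multiply]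
  simp [hS]

theorem one_add_single_mem (c : Idx m) :
    (1 + Matrix.single c (iota c) (1 : F) : Matrix (Idx m) (Idx m) F) ∈
      Matrix.symplecticGroup (Fin m) F := by
  rcases c with i | i
  · have h : (1 + Matrix.single (Sum.inl i) (iota (Sum.inl i)) (1 : F) :
        Matrix (Idx m) (Idx m) F) = fromBlocks 1 (Matrix.single i i 1) 0 1 := by
      ext x y
      rcases x with x | x <;> rcases y with y | y <;>
        simp [iota, Matrix.single_apply, Matrix.one_apply]
    rw [h]
    exact upperBlock_mem _ (by simp)
  · have h : (1 + Matrix.single (Sum.inr i) (iota (Sum.inr i)) (1 : F) :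
        Matrix (Idx m) (Idx m) F) = (fromBlocks 1 (Matrix.single i i 1) 0 1)ᵀ := by
      ext x y
      rcases x with x | x <;> rcases y with y | y <;>
        simp [iota, Matrix.single_apply, Matrix.one_apply, and_comm, eq_comm (a := x) (b := y)]
    rw [h]
    exact SymplecticGroup.transpose_mem (upperBlock_mem _ (by simp))

theorem iota_ne (c : Idx m) : iota c ≠ c := by
  rcases c with i | i <;> simp [iota]

/-- a central element of `Sp` is diagonal -/
theorem apply_eq_zero_of_mem_center {z : SpG m F} (hz : z ∈ Subgroup.center (SpG m F))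
    {a c : Idx m} (hac : a ≠ c) : (z : Matrix (Idx m) (Idx m) F) a c = 0 := by
  have h1 := (Subgroup.mem_center_iff.mp hz) ⟨_, one_add_single_mem (F := F) c⟩
  have h2 : (1 + Matrix.single c (iota c) (1 : F)) * (z : Matrix (Idx m) (Idx m) F) =
      (z : Matrix (Idx m) (Idx m) F) * (1 + Matrix.single c (iota c) (1 : F)) :=
    congrArg Subtype.val h1
  rw [add_mul, mul_add, one_mul, mul_one] at h2
  have h3 := add_left_cancel h2
  have h4 := congrFun (congrFun h3 a) (iota c)
  rw [Matrix.single_mul_apply_of_ne _ _ _ _ _ hac, Matrix.mul_single_apply_same, mul_one] at h4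
  exact h4.symm

/-- [ST-CENTER] -/
theorem center_le_Tsp : Subgroup.center (SpG m F) ≤ Tsp m F := by
  intro z hz
  constructor
  · intro a b hab
    exact apply_eq_zero_of_mem_center hz (by rintro rfl; exact lt_irrefl _ hab)
  · intro a b hab
    exact apply_eq_zero_of_mem_center hz (by rintro rfl; exact lt_irrefl _ hab)
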