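import Mathlib
import Cfsg.Agent.Lib.Helper83.SpBN.StCenter
import Cfsg.Prelude.Def_Classical

/-!
# SPBN-[ST-LIFT] (helper83): `p`-elements of `PSp` lift to `p`-elements of `Sp`
-/

set_option autoImplicit false

namespace Cfsg.Agent.Lib.Helper83.SpBN

open Matrix Cfsg.Agent.Lib.Helper13.SpBN

variable {m : ℕ} {F : Type*} [Field F]

/-- the centre of `Sp` over a finite field of characteristic `p` is a `p'`-group -/
theorem not_dvd_card_center [Fintype F] (p : ℕ) [Fact p.Prime] [CharP F p] :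
    ¬ p ∣ Nat.card (Subgroup.center (SpG m F)) := by
  classical
  intro hdvd
  have : Finite (SpG m F) := Subtype.finite
  obtain ⟨z, hz⟩ := exists_prime_orderOf_dvd_card' p hdvd
  have h1 : z ^ p = 1 := by rw [← hz]; exact pow_orderOf_eq_one z
  have h2 : ((z : SpG m F)) ^ p ^ 1 = 1 := by
    rw [pow_one]
    have := congrArg Subtype.val h1
    simpa using this
  have h3 := eq_one_of_mem_Tsp_of_pow p (center_le_Tsp z.2) h2
  have h4 : z = 1 := Subtype.ext h3
  rw [h4, orderOf_one] at hz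
  exact (Fact.out : p.Prime).one_lt.ne hz

/-- [ST-LIFT]  `p`-elements of `PSp` lift to `p`-elements of `Sp` -/
theorem exists_lift_pElement [Fintype F] (p : ℕ) [Fact p.Prime] [CharP F p] (x : Cfsg.PSp m F)
    {j : ℕ} (hx : x ^ p ^ j = 1) :
    ∃ g : SpG m F, (QuotientGroup.mk g : Cfsg.PSp m F) = x ∧ g ^ p ^ j = 1 := by
  classical
  have : Finite (SpG m F) := Subtype.finite
  obtain ⟨g0, rfl⟩ := QuotientGroup.mk_surjective x
  have h1 : g0 ^ p ^ j ∈ Subgroup.center (SpG m F) := by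
    rw [← QuotientGroup.eq_one_iff, QuotientGroup.mk_pow]
    exact hx
  have hcop : (Nat.card (Subgroup.center (SpG m F))).Coprime (p ^ j) :=
    Nat.Coprime.pow_right _
      ((Nat.coprime_comm.mp ((Nat.Prime.coprime_iff_not_dvd Fact.out).mpr
        (not_dvd_card_center (m := m) (F := F) p))))
  obtain ⟨w, hw⟩ := (powCoprime hcop).surjective ⟨(g0 ^ p ^ j)⁻¹, inv_mem h1⟩
  have hw' : (w : SpG m F) ^ p ^ j = (g0 ^ p ^ j)⁻¹ := by
    have := congrArg Subtype.val hw
    simpa using this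
  refine ⟨g0 * w, ?_, ?_⟩
  · rw [QuotientGroup.mk_mul, (QuotientGroup.eq_one_iff (w : SpG m F)).mpr w.2, mul_one]
  · have hc : Commute g0 (w : SpG m F) := (Subgroup.mem_center_iff.mp w.2 g0)
    rw [hc.mul_pow, hw', mul_inv_cancel]
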